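import Cfsg.Agent.CosetEnum.WE8H.Data

set_option autoImplicit false
set_option maxRecDepth 100000
set_option Elab.async false

/-! Deductions for the coset table on 2 cosets (generated certificate). -/

namespace CfsgLib.CosetEnum.WE8H

def B0 : ℕ := 0x3

theorem tree0 : foldR (tree 1 tb id parN parX) 1 0 0 = B0 := by decide +kernel

theorem goodT0 : enum.Good B0 := enum.good_tree_block 1 0 _ _ enum.good_zero tree0

theorem good0 : enum.Good B0 := goodT0

end CfsgLib.CosetEnum.WE8H
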